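import Groth.Prelude.Def_AdFn

/-!
# Approximation of elements of `K_v` by elements of `K`
-/

set_option autoImplicit false
universe u

namespace K869.AdApprox

variable {k K : Type u} [Field k] [Field K] [Algebra k K]

theorem exists_sub_mem (v : FunFld.Place k K) (x : AdFn.Kv v) : ∃ f : K, x - AdFn.toKv v f ∈ AdFn.Ov v := by
  have hd : DenseRange ((↑) : WithVal v.1 → v.1.Completion) := UniformSpace.Completion.denseRange_coe
  have hopen : IsOpen {y : AdFn.Kv v | x - y ∈ AdFn.Ov v} := by
    have h := AdFn.isOpen_Ov v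
    exact h.preimage (continuous_const.sub continuous_id)
  obtain ⟨w, hw⟩ := hd.exists_mem_open hopen ⟨x, by simp⟩
  exact ⟨WithVal.ofVal w, hw⟩

theorem smul_mem (v : FunFld.Place k K) (c : k) {x : AdFn.Kv v} (hx : x ∈ AdFn.Ov v) : c • x ∈ AdFn.Ov v := by
  rw [Algebra.smul_def]
  refine (AdFn.Ov v).mul_mem _ _ ?_ hx
  rw [IsScalarTower.algebraMap_apply k K (AdFn.Kv v)]
  exact (AdFn.toKv_mem_Ov v _).2 (v.2.1 c)

theorem mem_span_Ov (v : FunFld.Place k K) (x : AdFn.Kv v) :
    x ∈ Submodule.span k (AdFn.Ov v : Set (AdFn.Kv v)) ↔ x ∈ AdFn.Ov v := by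
  constructor
  · intro h
    induction h using Submodule.span_induction with
    | mem x hx => exact hx
    | zero => exact (AdFn.Ov v).zero_mem
    | add x y _ _ hx hy => exact (AdFn.Ov v).add_mem _ _ hx hy
    | smul c x _ hx => exact smul_mem v c hx
  · intro h
    exact Submodule.subset_span h

end K869.AdApprox
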